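import Mathlib
import Cfsg.Agent.Lib.Conjugacy.TransferAverage
import Cfsg.Agent.Lib.Coprime.Action
import Cfsg.Agent.Lib.Transfer.Basic
import Cfsg.Agent.Lib.Transfer.SmallElements

/-!
Elements acting trivially on all normal sections of order `p`, and their action on normal
`p`-subgroups all of whose subgroups of one given order are normal.
-/

set_option autoImplicit false
set_option linter.style.haveILetI false

open scoped commutatorElement

namespace CfsgLib.HSub

variable {G : Type*} [Group G]

/-- `g` centralizes every normal section of order `p`. -/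
def TrivSec (p : ℕ) (g : G) : Prop :=
  ∀ A B : Subgroup G, A.Normal → B.Normal → A ≤ B → A.relIndex B = p → ∀ b ∈ B, ⁅g, b⁆ ∈ A

variable [Finite G] {p : ℕ} [hp : Fact p.Prime]

/-- The automorphisms induced on a section of order `p` commute and have exponent dividing
`p - 1`. -/
theorem exists_sec_hom {A B : Subgroup G} [A.Normal] [B.Normal] (hAB : A ≤ B)
    (hr : A.relIndex B = p) :
    ∃ ψ : G →* (ZMod p)ˣ, ∀ g, ψ g = 1 → ∀ b ∈ B, ⁅g, b⁆ ∈ A := by
  classical
  set L : Subgroup (G ⧸ A) := B.map (QuotientGroup.mk' A) with hL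
  haveI : L.Normal := Subgroup.Normal.map inferInstance _ (QuotientGroup.mk'_surjective A)
  have hLc : Nat.card L = p := by
    rw [← hr, hL]
    have h3 := Subgroup.relIndex_ker (K := B) (QuotientGroup.mk' A)
    rw [QuotientGroup.ker_mk'] at h3
    exact h3.symm
  haveI : IsCyclic L := isCyclic_of_prime_card hLc
  let e : MulAut L ≃* (ZMod p)ˣ := (IsCyclic.mulAutMulEquiv L).symm.symm.trans
    (Units.mapEquiv (ZMod.ringEquivCongr hLc).toMulEquiv)
  refine ⟨e.toMonoidHom.comp
    ((MulAut.conjNormal : G ⧸ A →* MulAut L).comp (QuotientGroup.mk' A)), fun g hg b hb => ?_⟩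
  have h1 : (MulAut.conjNormal (QuotientGroup.mk' A g) : MulAut L) = 1 :=
    e.injective (by rw [map_one]; exact hg)
  have h2 := congrArg Subtype.val
    (DFunLike.congr_fun h1 ⟨QuotientGroup.mk' A b, Subgroup.mem_map_of_mem _ hb⟩)
  rw [MulAut.conjNormal_apply, MulAut.one_apply] at h2
  rw [← QuotientGroup.eq_one_iff, ← QuotientGroup.mk'_apply, map_commutatorElement,
    commutatorElement_def, h2, mul_inv_cancel]

theorem trivSec_of_mem_commutator {g : G} (hg : g ∈ commutator G) : TrivSec p g := by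
  intro A B hA hB hAB hr
  haveI := hA
  haveI := hB
  obtain ⟨ψ, hψ⟩ := exists_sec_hom hAB hr
  exact hψ g (Abelianization.commutator_subset_ker ψ hg)

theorem trivSec_pow_pred (a : G) : TrivSec p (a ^ (p - 1)) := by
  intro A B hA hB hAB hr
  haveI := hA
  haveI := hB
  obtain ⟨ψ, hψ⟩ := exists_sec_hom hAB hr
  refine hψ _ ?_
  rw [map_pow, ← ZMod.card_units p, pow_card_eq_one]

theorem TrivSec.pow {g : G} (hg : TrivSec p g) (n : ℕ) : TrivSec p (g ^ n) := by
  intro A B hA hB hAB hr b hb
  haveI := hA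
  induction n with
  | zero => simp
  | succ n ih =>
    have e : ⁅g ^ (n + 1), b⁆ = g ^ n * ⁅g, b⁆ * (g ^ n)⁻¹ * ⁅g ^ n, b⁆ := by
      simp only [commutatorElement_def, pow_succ]; group
    rw [e]
    exact A.mul_mem (hA.conj_mem _ (hg A B hA hB hAB hr b hb) _) ih

/-- When no prime divisor of `|G|` is below `p`, the `p'`-elements are trivial on all sections of
order `p`. -/
theorem trivSec_of_smallest (hmin : ∀ q : ℕ, q.Prime → q ∣ Nat.card G → p ≤ q) {g : G}
    (hg : (orderOf g).Coprime p) : TrivSec p g := by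
  have hcop : (orderOf g).Coprime (p - 1) := by
    refine Nat.coprime_of_dvd fun q hq hqg hqp => ?_
    have h1 := hmin q hq (hqg.trans (orderOf_dvd_natCard g))
    have h2 := Nat.le_of_dvd (by have := hp.out.two_le; omega) hqp
    have h3 := hq.two_le
    have h4 := hp.out.two_le
    omega
  obtain ⟨m, hm⟩ := exists_pow_eq_self_of_coprime hcop.symm
  rw [← hm]
  exact (trivSec_pow_pred g).pow m

/-- A `p'`-element trivial on sections centralizes a normal `p`-subgroup whose maximal subgroups
are normal. -/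
theorem centralizes_of_coatoms_normal {Q : Subgroup G} [Q.Normal] (hQ : IsPGroup p Q)
    (hM : ∀ M : Subgroup Q, IsCoatom M → (M.map Q.subtype).Normal) {g : G}
    (hg : TrivSec p g) (hgc : (orderOf g).Coprime p) : g ∈ Subgroup.centralizer (Q : Set G) := by
  refine Coprime.le_centralizer_of_frattini (A := Subgroup.zpowers g)
    (fun x _ => by rw [Subgroup.normalizer_eq_top]; trivial) ?_ ?_ (Subgroup.mem_zpowers g)
  · rw [Nat.card_zpowers]
    obtain ⟨n, hn⟩ := IsPGroup.iff_card.mp (hQ.to_subgroup (frattini Q))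
    rw [hn]
    exact hgc.pow_right n
  intro a ha k hk
  have htriv : TrivSec p a := by
    obtain ⟨n, rfl⟩ := (isOfFinOrder_of_finite g).mem_powers_iff_mem_zpowers.mpr ha
    exact hg.pow n
  have hkQ : a * k * a⁻¹ * k⁻¹ ∈ Q :=
    Q.mul_mem (‹Q.Normal›.conj_mem k hk a) (Q.inv_mem hk)
  refine ⟨⟨_, hkQ⟩, ?_, rfl⟩
  have hmem : ∀ M : Subgroup Q, IsCoatom M → (⟨_, hkQ⟩ : Q) ∈ M := by
    intro M hMc
    obtain ⟨hn, hi⟩ := Conjugacy.coatom_normal_index hQ hMc
    have hr : (M.map Q.subtype).relIndex Q = p := by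
      rw [Subgroup.relIndex, Subgroup.subgroupOf, Subgroup.comap_map_eq_self_of_injective
        Q.subtype_injective, hi]
    obtain ⟨z, hz, he⟩ := htriv _ Q (hM M hMc) inferInstance (Subgroup.map_subtype_le _) hr k hk
    have : z = ⟨_, hkQ⟩ := Subtype.ext (by rw [commutatorElement_def] at he; exact he)
    rwa [← this]
  exact (Subgroup.mem_iInf.mpr fun M => Subgroup.mem_iInf.mpr fun hMc => hmem M hMc : _)

end CfsgLib.HSub
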