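import Mathlib
import Cfsg.Agent.Lib.HSub.Triv

/-!
Coprime elements on a normal `p`-subgroup all of whose subgroups of order `p ^ d` are normal.
-/

set_option autoImplicit false
set_option linter.style.haveILetI false

open scoped commutatorElement

namespace CfsgLib.HSub

variable {G : Type*} [Group G] [Finite G] {p : ℕ} [hp : Fact p.Prime]

/-- `Q` has all its subgroups of order `p ^ d` normal (and of order `4` when `p ^ d = 2`). -/
def AllNormal (p d : ℕ) (Q : Subgroup G) : Prop :=
  ∀ E : Subgroup G, E ≤ Q → (Nat.card E = p ^ d ∨ (p ^ d = 2 ∧ Nat.card E = 4)) → E.Normal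

/-- Over a subgroup `H` of a `p`-group `L` there is one of each intermediate order. -/
theorem exists_between {L H : Subgroup G} (hL : IsPGroup p L) (hHL : H ≤ L) {m : ℕ}
    (h1 : Nat.card H ≤ p ^ m) (h2 : p ^ m ≤ Nat.card L) :
    ∃ E : Subgroup G, H ≤ E ∧ E ≤ L ∧ Nat.card E = p ^ m := by
  obtain ⟨b, hb⟩ := IsPGroup.iff_card.mp hL
  obtain ⟨a, ha⟩ := IsPGroup.iff_card.mp (hL.to_le hHL)
  have ha' : Nat.card (H.subgroupOf L) = p ^ a := by
    rw [Nat.card_congr (Subgroup.subgroupOfEquivOfLe hHL).toEquiv, ha]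
  rw [ha] at h1
  rw [hb] at h2
  obtain ⟨K, hK, hHK⟩ := Sylow.exists_subgroup_card_pow_prime_le p
    (hb ▸ Nat.pow_dvd_pow p ((Nat.pow_le_pow_iff_right hp.out.one_lt).mp h2)) _ ha'
    ((Nat.pow_le_pow_iff_right hp.out.one_lt).mp h1)
  refine ⟨K.map L.subtype, ?_, Subgroup.map_subtype_le _, ?_⟩
  · rw [← Subgroup.map_subgroupOf_eq_of_le hHL]
    exact Subgroup.map_mono hHK
  · rw [Subgroup.card_map_of_injective L.subtype_injective, hK]

theorem card_mul_relIndex_inf (M L : Subgroup G) :
    Nat.card ↥(L ⊓ M) * M.relIndex L = Nat.card L := by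
  rw [mul_comm, inf_comm]
  exact Coprime.relIndex_mul_card_inf M L

theorem mem_map_frattini_of_pow {Q : Subgroup G} (hQ : IsPGroup p Q) {x : G} (hx : x ∈ Q) :
    x ^ p ∈ (frattini Q).map Q.subtype := by
  refine ⟨⟨x, hx⟩ ^ p, ?_, rfl⟩
  show _ ∈ (frattini Q : Subgroup Q)
  simp only [frattini, Order.radical, Subgroup.mem_iInf]
  intro M hM
  obtain ⟨hn, hi⟩ := Conjugacy.coatom_normal_index hQ hM
  haveI := hn
  have := M.pow_index_mem ⟨x, hx⟩
  rwa [hi] at this

theorem centralizes_of_allNormal {d : ℕ} (hd : 1 ≤ d) {g : G} (hg : TrivSec p g)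
    (hgc : (orderOf g).Coprime p) :
    ∀ (Q : Subgroup G), Q.Normal → IsPGroup p Q → p ^ d < Nat.card Q → AllNormal p d Q →
      g ∈ Subgroup.centralizer (Q : Set G) := by
  suffices H : ∀ (n : ℕ) (Q : Subgroup G), Nat.card Q = n → Q.Normal → IsPGroup p Q →
      p ^ d < Nat.card Q → AllNormal p d Q → g ∈ Subgroup.centralizer (Q : Set G) from
    fun Q => H _ Q rfl
  intro n
  induction n using Nat.strong_induction_on with
  | _ n IH =>
  intro Q hn hQn hQ hlt hE
  subst hn
  haveI := hQn
  obtain ⟨b, hb⟩ := IsPGroup.iff_card.mp hQ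
  by_cases hbd : b = d + 1
  · refine centralizes_of_coatoms_normal hQ (fun M hM => ?_) hg hgc
    refine hE _ (Subgroup.map_subtype_le _) (Or.inl ?_)
    obtain ⟨-, hi⟩ := Conjugacy.coatom_normal_index hQ hM
    rw [Subgroup.card_map_of_injective Q.subtype_injective]
    have h2 := M.card_mul_index
    rw [hi, hb, hbd, pow_succ] at h2
    exact Nat.eq_of_mul_eq_mul_right hp.out.pos h2
  have hb2 : d + 2 ≤ b := by
    have : p ^ d < p ^ b := hb ▸ hlt
    have := (Nat.pow_lt_pow_iff_right hp.out.one_lt).mp this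
    omega
  haveI : Finite (Subgroup G) := Finite.of_injective (fun K => (K : Set G)) SetLike.coe_injective
  have hbot : (⊥ : Subgroup G) < Q := by
    rw [bot_lt_iff_ne_bot]
    rintro rfl
    rw [Subgroup.card_bot] at hlt
    exact absurd hlt (by have := Nat.one_le_pow d p hp.out.pos; omega)
  obtain ⟨M, hM, hMmax⟩ := (Set.toFinite {M : Subgroup G | M.Normal ∧ M < Q}).exists_maximal
    ⟨⊥, inferInstance, hbot⟩
  obtain ⟨hMn, hMQ⟩ := hM
  haveI := hMn
  have hmax : ∀ N : Subgroup G, N.Normal → M ≤ N → N ≤ Q → N ≠ Q → N ≤ M := fun N h1 h2 h3 h4 =>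
    hMmax ⟨h1, lt_of_le_of_ne h3 h4⟩ h2
  have hMp : IsPGroup p M := hQ.to_le hMQ.le
  obtain ⟨a, ha⟩ := IsPGroup.iff_card.mp hMp
  -- the maximal normal subgroup is large
  have hda : d ≤ a := by
    by_contra hc
    obtain ⟨L, hML, hLQ, hLc⟩ := exists_between hQ hMQ.le (m := d)
      (ha ▸ Nat.pow_le_pow_right hp.out.pos (by omega)) hlt.le
    have h1 := hmax L (hE L hLQ (Or.inl hLc)) hML hLQ (fun e => by
      rw [e, hb] at hLc
      have := Nat.pow_right_injective hp.out.two_le hLc
      omega)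
    have h2 := Subgroup.card_le_of_le h1
    rw [hLc, ha] at h2
    have := (Nat.pow_le_pow_iff_right hp.out.one_lt).mp h2
    omega
  -- `x ^ p ∈ M`
  have hΦM : ∀ x ∈ Q, x ^ p ∈ M := by
    intro x hx
    set Φ := (frattini Q).map Q.subtype with hΦ
    refine hmax (M ⊔ Φ) inferInstance le_sup_left (sup_le hMQ.le (Subgroup.map_subtype_le _))
      (fun e => ?_) (Subgroup.mem_sup_right (mem_map_frattini_of_pow hQ hx))
    have h1 : (M.subgroupOf Q) ⊔ frattini Q = ⊤ := by
      apply Subgroup.map_injective Q.subtype_injective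
      rw [Subgroup.map_sup, Subgroup.map_subgroupOf_eq_of_le hMQ.le, ← hΦ, e,
        ← MonoidHom.range_eq_map, Subgroup.range_subtype]
    haveI : Finite (Subgroup Q) :=
      Finite.of_injective (fun K => (K : Set Q)) SetLike.coe_injective
    exact hMQ.not_ge (Subgroup.subgroupOf_eq_top.mp (frattini_nongenerating h1))
  -- a subgroup just above `M`
  have hstep : ∀ x ∈ Q, x ∉ M → M ⊔ Subgroup.zpowers x ≤ Q ∧
      Nat.card ↥(M ⊔ Subgroup.zpowers x) = p ^ (a + 1) := by
    intro x hx hxM
    refine ⟨sup_le hMQ.le (Subgroup.zpowers_le.mpr hx), ?_⟩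
    obtain ⟨K, hMK, hKQ, hK⟩ := exists_between hQ
      (sup_le hMQ.le (Subgroup.zpowers_le.mpr hx)) (m := b) (hb ▸ Subgroup.card_le_of_le
        (sup_le hMQ.le (Subgroup.zpowers_le.mpr hx))) hb.ge
    set f := QuotientGroup.mk' M
    have h1 : Nat.card ↥((Subgroup.zpowers x).map f) = p := by
      rw [MonoidHom.map_zpowers, Nat.card_zpowers]
      refine orderOf_eq_prime ?_ ?_
      · rw [← map_pow]; exact (QuotientGroup.eq_one_iff _).mpr (hΦM x hx)
      · exact fun e => hxM ((QuotientGroup.eq_one_iff x).mp e)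
    have h2 := Subgroup.relIndex_ker (K := M ⊔ Subgroup.zpowers x) f
    rw [QuotientGroup.ker_mk', Subgroup.map_sup, (Subgroup.map_eq_bot_iff _).mpr
      (QuotientGroup.ker_mk' M).ge, bot_sup_eq, h1] at h2
    have h3 := card_mul_relIndex_inf M (M ⊔ Subgroup.zpowers x)
    rw [inf_eq_right.mpr le_sup_left] at h3
    rw [pow_succ, ← ha, ← h3, h2]
  have hbot' : Subgroup.zpowers g ≤ Subgroup.normalizer (Q : Set G) := fun x _ => by
    rw [Subgroup.normalizer_eq_top]; trivial
  by_cases hr : M.relIndex Q = p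
  · -- a chief factor of order `p`
    have hMQc := card_mul_relIndex_inf M Q
    rw [inf_eq_right.mpr hMQ.le, ha, hr, hb, ← pow_succ] at hMQc
    have hab : a + 1 = b := Nat.pow_right_injective hp.out.two_le hMQc
    have hcM := IH _ (by rw [hb, ha]; exact Nat.pow_lt_pow_right hp.out.one_lt (by omega)) M rfl
      hMn hMp (by rw [ha]; exact Nat.pow_lt_pow_right hp.out.one_lt (by omega))
      (fun E hEM => hE E (hEM.trans hMQ.le))
    have h1 : ⁅Q, Subgroup.zpowers g⁆ ≤ M := by
      rw [Subgroup.commutator_comm, Subgroup.commutator_le]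
      intro z hz q hq
      obtain ⟨m, rfl⟩ := (isOfFinOrder_of_finite g).mem_powers_iff_mem_zpowers.mpr hz
      exact (hg.pow m) M Q hMn hQn hMQ.le hr q hq
    have h2 : ⁅M, Subgroup.zpowers g⁆ = ⊥ := by
      rw [Subgroup.commutator_comm, Subgroup.commutator_eq_bot_iff_le_centralizer,
        Subgroup.zpowers_le]
      exact hcM
    have h3 := Coprime.commutator_eq_bot_of_commutator_commutator hbot'
      (by rw [Nat.card_zpowers, hb]; exact hgc.pow_right b)
      (le_bot_iff.mp (h2 ▸ Subgroup.commutator_mono h1 le_rfl))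
    rw [Subgroup.commutator_comm, Subgroup.commutator_eq_bot_iff_le_centralizer,
      Subgroup.zpowers_le] at h3
    exact h3
  -- a larger chief factor
  have hne : ∀ x ∈ Q, x ∉ M → M ⊔ Subgroup.zpowers x ≠ Q := by
    intro x hx hxM e
    apply hr
    obtain ⟨-, h2⟩ := hstep x hx hxM
    rw [e, hb] at h2
    have hMQc := card_mul_relIndex_inf M Q
    rw [inf_eq_right.mpr hMQ.le, ha, hb, h2, pow_succ] at hMQc
    exact Nat.eq_of_mul_eq_mul_left (pow_pos hp.out.pos a) hMQc
  have hin : ∀ x ∈ Q, x ∉ M → ∀ E : Subgroup G, E.Normal → E ≤ M ⊔ Subgroup.zpowers x →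
      E ≤ M := by
    intro x hx hxM E hEn hEle
    haveI := hEn
    have h1 : M ⊔ E ≤ M ⊔ Subgroup.zpowers x := sup_le le_sup_left hEle
    exact le_sup_right.trans (hmax (M ⊔ E) inferInstance le_sup_left
      (h1.trans (hstep x hx hxM).1)
      (fun e => hne x hx hxM (le_antisymm (hstep x hx hxM).1 (e ▸ h1))))
  have hsmall : ∀ x ∈ Q, (x ^ p = 1 ∨ (p = 2 ∧ x ^ 4 = 1)) → x ∈ M := by
    intro x hx hxs
    by_contra hxM
    obtain ⟨hLQ, hLc⟩ := hstep x hx hxM
    obtain ⟨k, hk⟩ := IsPGroup.iff_orderOf.mp hQ ⟨x, hx⟩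
    rw [← Subgroup.orderOf_coe] at hk
    change orderOf x = p ^ k at hk
    have key : ∀ E : Subgroup G, x ∈ E → E.Normal → E ≤ M ⊔ Subgroup.zpowers x → False :=
      fun E hxE hEn hEle => hxM (hin x hx hxM E hEn hEle hxE)
    by_cases hkd : p ^ k ≤ p ^ d
    · obtain ⟨E, hxE, hEL, hEc⟩ := exists_between (hQ.to_le hLQ)
        (le_sup_right : Subgroup.zpowers x ≤ M ⊔ Subgroup.zpowers x) (m := d)
        (by rwa [Nat.card_zpowers, hk])
        (by rw [hLc]; exact Nat.pow_le_pow_right hp.out.pos (by omega))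
      exact key E (hxE (Subgroup.mem_zpowers x))
        (hE E (hEL.trans hLQ) (Or.inl hEc)) hEL
    · have hkd' : d < k := by
        by_contra hc
        exact hkd (Nat.pow_le_pow_right hp.out.pos (by omega))
      rcases hxs with h | ⟨h2, h4⟩
      · have := orderOf_dvd_of_pow_eq_one h
        rw [hk] at this
        have := (Nat.pow_dvd_pow_iff_le_right hp.out.one_lt).mp
          (this.trans (pow_one p).symm.dvd)
        omega
      · subst h2
        have := orderOf_dvd_of_pow_eq_one h4
        rw [hk] at this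
        have h5 := (Nat.pow_dvd_pow_iff_le_right (show 1 < 2 by norm_num)).mp
          (show 2 ^ k ∣ 2 ^ 2 by simpa using this)
        have hd1 : d = 1 := by omega
        have hk2 : k = 2 := by omega
        refine key _ (Subgroup.mem_zpowers x) (hE _ (Subgroup.zpowers_le.mpr hx)
          (Or.inr ⟨by rw [hd1]; norm_num, ?_⟩)) le_sup_right
        rw [Nat.card_zpowers, hk, hk2]; norm_num
  have hcM : g ∈ Subgroup.centralizer (M : Set G) := by
    by_cases had : d < a
    · exact IH _ (by rw [hb, ha]; exact Nat.pow_lt_pow_right hp.out.one_lt (by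
          by_contra hc
          have h1 := Subgroup.eq_of_le_of_card_ge hMQ.le
            (by rw [hb, ha]; exact Nat.pow_le_pow_right hp.out.pos (by omega))
          exact hMQ.ne h1)) M rfl hMn hMp
        (by rw [ha]; exact Nat.pow_lt_pow_right hp.out.one_lt had)
        (fun E hEM => hE E (hEM.trans hMQ.le))
    · -- `M` is cyclic
      obtain ⟨x, hx, hxM⟩ := SetLike.exists_of_lt hMQ
      obtain ⟨hLQ, hLc⟩ := hstep x hx hxM
      set L := M ⊔ Subgroup.zpowers x with hL
      have hcyc : Subgroup.zpowers x = L := by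
        by_contra hc
        obtain ⟨E, hxE, hEL, hEc⟩ := exists_between (hQ.to_le hLQ)
          (le_sup_right : Subgroup.zpowers x ≤ L) (m := a) (by
            obtain ⟨k, hk⟩ := IsPGroup.iff_card.mp ((hQ.to_le hLQ).to_le
              (le_sup_right : Subgroup.zpowers x ≤ L))
            rw [hk]
            refine Nat.pow_le_pow_right hp.out.pos ?_
            by_contra hc'
            exact hc (Subgroup.eq_of_le_of_card_ge le_sup_right (by
              rw [hLc, hk]; exact Nat.pow_le_pow_right hp.out.pos (by omega))))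
          (by rw [hLc]; exact Nat.pow_le_pow_right hp.out.pos (by omega))
        exact hxM (hin x hx hxM E (hE E (hEL.trans hLQ) (Or.inl (by
          rw [hEc, show a = d by omega]))) hEL (hxE (Subgroup.mem_zpowers x)))
      haveI : IsCyclic M :=
        isCyclic_of_injective (Subgroup.inclusion (hcyc ▸ le_sup_left : M ≤ Subgroup.zpowers x))
          (Subgroup.inclusion_injective _)
      refine centralizes_of_coatoms_normal hMp (fun N _ => ?_) hg hgc
      haveI : N.Characteristic := by
        rw [Subgroup.characteristic_iff_map_le]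
        intro e y hy
        obtain ⟨z, hz, rfl⟩ := hy
        obtain ⟨m, hm⟩ := MonoidHom.map_cyclic e.toMonoidHom
        rw [hm z]
        exact N.zpow_mem hz m
      infer_instance
  refine Transfer.mem_centralizer_of_fixes_small hQ (hbot' (Subgroup.mem_zpowers g)) hgc
    fun x hx hxs => ?_
  exact mul_inv_eq_iff_eq_mul.mpr (hcM x (hsmall x hx hxs)).symm

end CfsgLib.HSub
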