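import Mathlib
import Cfsg.Agent.Lib.HSub.Small
import Cfsg.Agent.Lib.Transfer.Alperin
import Cfsg.Agent.Lib.Transfer.TateFrattini
import Cfsg.Agent.Lib.Transfer.Cyclic

/-!
A Sylow subgroup for the smallest prime whose subgroups of one order `p ^ d` are strongly closed
forces a normal `p`-complement.
-/

set_option autoImplicit false
set_option linter.style.haveILetI false

open scoped commutatorElement

namespace CfsgLib.HSub

variable {G : Type*} [Group G] [Finite G] {p : ℕ} [hp : Fact p.Prime]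

/-- An `H`-subgroup inside a `p`-group is normal and strongly closed in it. -/
theorem closed_of_hsub {P E : Subgroup G} (hP : IsPGroup p P) (hEP : E ≤ P)
    (h : ∀ g : G, E.map (MulAut.conj g).toMonoidHom ⊓ Subgroup.normalizer (E : Set G) ≤ E) :
    P ≤ Subgroup.normalizer (E : Set G) ∧ ∀ g : G, ∀ e ∈ E, g * e * g⁻¹ ∈ P → g * e * g⁻¹ ∈ E := by
  have h1 : P ≤ Subgroup.normalizer (E : Set G) := by
    by_contra hc
    set N₁ := P ⊓ Subgroup.normalizer (E : Set G) with hN₁
    have hlt : N₁ < P := lt_of_le_of_ne inf_le_left (fun e => hc (e ▸ inf_le_right))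
    obtain ⟨g, hg, hgN⟩ := SetLike.exists_of_lt (Transfer.lt_inf_normalizer hP hlt)
    apply hgN
    refine ⟨hg.1, ?_⟩
    have h2 : E.map (MulAut.conj g).toMonoidHom ≤ E := by
      intro z hz
      refine h g ⟨hz, ?_⟩
      obtain ⟨e, he, rfl⟩ := hz
      exact ((Subgroup.mem_normalizer_iff.mp hg.2 e).mp ⟨hEP he, Subgroup.le_normalizer he⟩).2
    exact Transfer.map_conj_eq_self_iff.mp (Subgroup.eq_of_le_of_card_ge h2
      (Transfer.card_conj_map g E).ge)
  exact ⟨h1, fun g e he hgP => h g ⟨Subgroup.mem_map_of_mem _ he, h1 hgP⟩⟩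

/-- Every subgroup of `P` of order `p ^ d` (and of order `4` if `p ^ d = 2`) is strongly closed. -/
def AllClosed (p d : ℕ) (P : Subgroup G) : Prop :=
  ∀ E : Subgroup G, E ≤ P → (Nat.card E = p ^ d ∨ (p ^ d = 2 ∧ Nat.card E = 4)) →
    ∀ g : G, ∀ e ∈ E, g * e * g⁻¹ ∈ P → g * e * g⁻¹ ∈ E

theorem commutator_le_frattini {Q : Type*} [Group Q] [Finite Q] (hQ : IsPGroup p Q) :
    commutator Q ≤ frattini Q := by
  intro x hx
  simp only [frattini, Order.radical, Subgroup.mem_iInf]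
  intro M hM
  obtain ⟨hn, hi⟩ := Conjugacy.coatom_normal_index hQ hM
  haveI := hn
  haveI : IsCyclic (Q ⧸ M) := isCyclic_of_prime_card (hi ▸ (Subgroup.index_eq_card M).symm)
  letI : CommGroup (Q ⧸ M) := IsCyclic.commGroup
  exact (QuotientGroup.eq_one_iff x).mp
    (Abelianization.commutator_subset_ker (QuotientGroup.mk' M) hx)

/-- An element outside a normal subgroup with elementary quotient avoids a maximal subgroup
containing it. -/
theorem mem_of_mem_coatoms {Q : Type*} [Group Q] [Finite Q] (H : Subgroup Q) [H.Normal]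
    (hc : commutator Q ≤ H) (hpow : ∀ x : Q, x ^ p ∈ H) {z : Q}
    (hz : ∀ M : Subgroup Q, IsCoatom M → H ≤ M → z ∈ M) : z ∈ H := by
  set f := QuotientGroup.mk' H
  have hf : Function.Surjective f := QuotientGroup.mk'_surjective H
  have h1 : frattini (Q ⧸ H) = ⊥ := by
    rw [eq_bot_iff]
    refine Critical.frattini_le_of_elementary (p := p) ⊥ ?_ fun v => ?_
    · have e := Subgroup.map_mono (f := f) hc
      rw [commutator_def, Subgroup.map_commutator, Subgroup.map_top_of_surjective f hf,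
        ← commutator_def] at e
      exact e.trans (by rw [QuotientGroup.map_mk'_self])
    · obtain ⟨w, rfl⟩ := hf v
      rw [Subgroup.mem_bot, ← map_pow]
      exact (QuotientGroup.eq_one_iff _).mpr (hpow w)
  have h2 : f z ∈ frattini (Q ⧸ H) := by
    simp only [frattini, Order.radical, Subgroup.mem_iInf]
    intro M hM
    exact hz _ (Subgroup.isCoatom_comap_of_surjective hf hM) (QuotientGroup.le_comap_mk' H M)
  rw [h1, Subgroup.mem_bot] at h2
  exact (QuotientGroup.eq_one_iff z).mp h2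

variable {d : ℕ} (P : Sylow p G)

/-- Conjugation inside the normalizer of an intersection does not change classes modulo the
Frattini subgroup. -/
theorem conj_congr (hmin : ∀ q : ℕ, q.Prime → q ∣ Nat.card G → p ≤ q) (hd : 1 ≤ d)
    (hlt : p ^ d < Nat.card (P : Subgroup G)) (hcl : AllClosed p d (P : Subgroup G))
    {D : Subgroup G} (hDP : D ≤ (P : Subgroup G))
    (hfull : ¬ p ∣ ((P : Subgroup G) ⊓ Subgroup.normalizer (D : Set G)).relIndex
      (Subgroup.normalizer (D : Set G))) :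
    ∀ n ∈ Subgroup.normalizer (D : Set G), ∀ a ∈ D,
      a⁻¹ * (n * a * n⁻¹) ∈
        (frattini ↥(P : Subgroup G)).map (P : Subgroup G).subtype := by
  classical
  set N := Subgroup.normalizer (D : Set G) with hN
  set Φ := (frattini ↥(P : Subgroup G)).map (P : Subgroup G).subtype with hΦdef
  have hconjD : ∀ n ∈ N, ∀ a ∈ D, n * a * n⁻¹ ∈ D := fun n hn a ha =>
    (Subgroup.mem_normalizer_iff.mp hn a).mp ha
  let K : Subgroup G :=
    { carrier := {n | n ∈ N ∧ ∀ a ∈ D, a⁻¹ * (n * a * n⁻¹) ∈ Φ}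
      one_mem' := ⟨N.one_mem, fun a _ => by simp⟩
      mul_mem' := by
        rintro n m ⟨hn, hn'⟩ ⟨hm, hm'⟩
        refine ⟨N.mul_mem hn hm, fun a ha => ?_⟩
        have e : a⁻¹ * (n * m * a * (n * m)⁻¹) = (a⁻¹ * (m * a * m⁻¹)) *
            ((m * a * m⁻¹)⁻¹ * (n * (m * a * m⁻¹) * n⁻¹)) := by group
        rw [e]
        exact Φ.mul_mem (hm' a ha) (hn' _ (hconjD m hm a ha))
      inv_mem' := by
        rintro n ⟨hn, hn'⟩
        refine ⟨N.inv_mem hn, fun a ha => ?_⟩
        have h1 := Φ.inv_mem (hn' _ (hconjD _ (N.inv_mem hn) a ha))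
        have e : a⁻¹ * (n⁻¹ * a * n⁻¹⁻¹) =
            ((n⁻¹ * a * n⁻¹⁻¹)⁻¹ * (n * (n⁻¹ * a * n⁻¹⁻¹) * n⁻¹))⁻¹ := by group
        rw [e]
        exact h1 }
  have hPK : (P : Subgroup G) ⊓ N ≤ K := by
    rintro u ⟨hu, huN⟩
    refine ⟨huN, fun a ha => ?_⟩
    refine ⟨⟨a, hDP ha⟩⁻¹ * (⟨u, hu⟩ * ⟨a, hDP ha⟩ * ⟨u, hu⟩⁻¹), ?_, rfl⟩
    refine commutator_le_frattini P.2 ?_
    rw [show (⟨a, hDP ha⟩⁻¹ * (⟨u, hu⟩ * ⟨a, hDP ha⟩ * ⟨u, hu⟩⁻¹) : ↥(P : Subgroup G)) =
      ⁅(⟨a, hDP ha⟩ : ↥(P : Subgroup G))⁻¹, ⟨u, hu⟩⁆ by simp [commutatorElement_def, mul_assoc]]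
    exact Subgroup.commutator_mem_commutator (Subgroup.mem_top _) (Subgroup.mem_top _)
  have hy : ∀ y ∈ N, (orderOf y).Coprime p → y ∈ K := by
    intro y hyN hyc
    refine ⟨hyN, ?_⟩
    by_cases hDd : p ^ d < Nat.card D
    · -- the automizer is a `p`-group
      have hc : (⟨y, hyN⟩ : N) ∈ Subgroup.centralizer ((D.subgroupOf N : Subgroup N) : Set N) := by
        refine centralizes_of_allNormal hd
          (trivSec_of_smallest (fun q hq hd' => hmin q hq (hd'.trans N.card_subgroup_dvd_card))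
            (by rwa [← Subgroup.orderOf_coe]))
          (by rwa [← Subgroup.orderOf_coe]) _ (Subgroup.normal_in_normalizer)
          ((P.2.to_le hDP).of_equiv (Subgroup.subgroupOfEquivOfLe Subgroup.le_normalizer).symm)
          (by rwa [Nat.card_congr (Subgroup.subgroupOfEquivOfLe Subgroup.le_normalizer).toEquiv])
          ?_
        intro E hE hEc
        refine ⟨fun e he n => ?_⟩
        have h1 : E.map N.subtype ≤ D := by
          rintro _ ⟨z, hz, rfl⟩; exact hE hz
        obtain ⟨z, hz, hzeq⟩ := hcl (E.map N.subtype) (h1.trans hDP)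
          (by rwa [Subgroup.card_map_of_injective N.subtype_injective]) n e
          (Subgroup.mem_map_of_mem _ he) (hDP (hconjD n n.2 _ (h1 ⟨e, he, rfl⟩)))
        rwa [← Subtype.ext (show (z : G) = ((n * e * n⁻¹ : N) : G) from hzeq)]
      intro a ha
      have h2 := congrArg Subtype.val (hc ⟨a, Subgroup.le_normalizer ha⟩ ha)
      simp only [Subgroup.coe_mul] at h2
      rw [← h2, mul_inv_cancel_right, inv_mul_cancel]
      exact Φ.one_mem
    push Not at hDd
    -- a small intersection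
    obtain ⟨b, hb⟩ := IsPGroup.iff_card.mp P.2
    have hdb : d < b := (Nat.pow_lt_pow_iff_right hp.out.one_lt).mp (hb ▸ hlt)
    have hcoatom : ∀ M : Subgroup ↥(P : Subgroup G), IsCoatom M → ∀ (a : G) (ha : a ∈ D),
        (⟨a, hDP ha⟩ : ↥(P : Subgroup G)) ∈ M →
        (⟨y * a * y⁻¹, hDP (hconjD y hyN a ha)⟩ : ↥(P : Subgroup G)) ∈ M := by
      intro M hM a ha haM
      obtain ⟨-, hi⟩ := Conjugacy.coatom_normal_index P.2 hM
      obtain ⟨E, hxE, hEM, hEc⟩ := exists_between
        (P.2.to_le (Subgroup.map_subtype_le M))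
        (Subgroup.zpowers_le.mpr ⟨_, haM, rfl⟩ : Subgroup.zpowers a ≤ M.map _) (m := d)
        ((Subgroup.card_le_of_le (Subgroup.zpowers_le.mpr ha)).trans hDd) (by
          rw [Subgroup.card_map_of_injective (Subgroup.subtype_injective _)]
          have h2 := M.card_mul_index
          rw [hi, hb, show b = (b - 1) + 1 by omega, pow_succ] at h2
          rw [Nat.eq_of_mul_eq_mul_right hp.out.pos h2]
          exact Nat.pow_le_pow_right hp.out.pos (by omega))
      obtain ⟨z, hz, hzeq⟩ := hEM (hcl E (hEM.trans (Subgroup.map_subtype_le M)) (Or.inl hEc) y a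
        (hxE (Subgroup.mem_zpowers a)) (hDP (hconjD y hyN a ha)))
      have e : z = ⟨y * a * y⁻¹, hDP (hconjD y hyN a ha)⟩ := Subtype.ext hzeq
      rwa [← e]
    have hΦinv : ∀ a ∈ D, a ∈ Φ → y * a * y⁻¹ ∈ Φ := by
      intro a ha ⟨w, hw, hwe⟩
      refine ⟨⟨_, hDP (hconjD y hyN a ha)⟩, ?_, rfl⟩
      show _ ∈ (frattini ↥(P : Subgroup G) : Subgroup _)
      simp only [frattini, Order.radical, Subgroup.mem_iInf]
      intro M hM
      refine hcoatom M hM a ha ?_
      rw [← show w = ⟨a, hDP ha⟩ from Subtype.ext hwe]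
      exact frattini_le_coatom hM hw
    intro a ha
    by_cases haΦ : a ∈ Φ
    · exact Φ.mul_mem (Φ.inv_mem haΦ) (hΦinv a ha haΦ)
    set Q := (P : Subgroup G)
    set F := frattini ↥Q with hF
    set f := QuotientGroup.mk' F with hfdef
    have hmem : ∀ (u : G) (hu : u ∈ Q), u ∈ Φ ↔ f ⟨u, hu⟩ = 1 := by
      intro u hu
      rw [hfdef, QuotientGroup.mk'_apply, QuotientGroup.eq_one_iff]
      exact ⟨fun ⟨w, hw, e⟩ => (show w = ⟨u, hu⟩ from Subtype.ext e) ▸ hw,
        fun h => ⟨_, h, rfl⟩⟩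
    have hpowF : ∀ x : ↥Q, x ^ p ∈ F := fun x => by
      show _ ∈ (frattini ↥Q : Subgroup _)
      simp only [frattini, Order.radical, Subgroup.mem_iInf]
      intro M hM
      obtain ⟨hn, hi⟩ := Conjugacy.coatom_normal_index P.2 hM
      haveI := hn
      have := M.pow_index_mem x
      rwa [hi] at this
    -- the image of `y a y⁻¹` is a power of the image of `a`
    set v := f ⟨a, hDP ha⟩ with hv
    haveI : (F ⊔ Subgroup.zpowers (⟨a, hDP ha⟩ : ↥Q)).Normal :=
      ⟨fun e he g => by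
        rw [show g * e * g⁻¹ = ⁅g, e⁆ * e by simp [commutatorElement_def]]
        exact Subgroup.mul_mem _ (Subgroup.mem_sup_left (commutator_le_frattini P.2
          (Subgroup.commutator_mem_commutator (Subgroup.mem_top g) (Subgroup.mem_top e)))) he⟩
    have hz := mem_of_mem_coatoms (p := p) (F ⊔ Subgroup.zpowers (⟨a, hDP ha⟩ : ↥Q))
      ((commutator_le_frattini P.2).trans le_sup_left)
      (fun x => Subgroup.mem_sup_left (hpowF x))
      (z := ⟨y * a * y⁻¹, hDP (hconjD y hyN a ha)⟩) (fun M hM hle =>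
        hcoatom M hM a ha (hle (Subgroup.mem_sup_right (Subgroup.mem_zpowers _))))
    have hz' := Subgroup.mem_map_of_mem f hz
    rw [Subgroup.map_sup, (Subgroup.map_eq_bot_iff _).mpr (QuotientGroup.ker_mk' F).ge, bot_sup_eq,
      MonoidHom.map_zpowers] at hz'
    obtain ⟨i, hi⟩ := (isOfFinOrder_of_finite v).mem_powers_iff_mem_zpowers.mpr hz'
    have hvp : orderOf v = p := orderOf_eq_prime
      (by rw [hv, ← map_pow]; exact (QuotientGroup.eq_one_iff _).mpr (hpowF _))
      (fun e => haΦ ((hmem a (hDP ha)).mpr e))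
    have hyNm : ∀ m : ℕ, y ^ m * a * (y ^ m)⁻¹ ∈ D := fun m => hconjD _ (N.pow_mem hyN m) a ha
    have hseq : ∀ m : ℕ, f ⟨_, hDP (hyNm m)⟩ = v ^ (i ^ m) := by
      intro m
      induction m with
      | zero => simp only [pow_zero, one_mul, inv_one, mul_one, pow_one, hv]
      | succ m ih =>
        set c := y ^ m * a * (y ^ m)⁻¹ with hc
        have hφ : (a ^ (i ^ m))⁻¹ * c ∈ D := D.mul_mem (D.inv_mem (D.pow_mem ha _)) (hyNm m)
        have hφ' : (a ^ (i ^ m))⁻¹ * c ∈ Φ := by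
          rw [hmem _ (hDP hφ)]
          rw [show (⟨(a ^ (i ^ m))⁻¹ * c, hDP hφ⟩ : ↥Q) =
            ((⟨a, hDP ha⟩ : ↥Q) ^ (i ^ m))⁻¹ * ⟨c, hDP (hyNm m)⟩ from rfl,
            map_mul, map_inv, map_pow, ih, ← hv, inv_mul_cancel]
        have h3 := hΦinv _ hφ hφ'
        rw [hmem _ (hDP (hconjD y hyN _ hφ))] at h3
        rw [show (⟨y ^ (m + 1) * a * (y ^ (m + 1))⁻¹, hDP (hyNm (m + 1))⟩ : ↥Q) =
          (⟨y * a * y⁻¹, hDP (hconjD y hyN a ha)⟩ : ↥Q) ^ (i ^ m) *
            ⟨y * ((a ^ (i ^ m))⁻¹ * c) * y⁻¹, hDP (hconjD y hyN _ hφ)⟩ from Subtype.ext (by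
              push_cast
              rw [conj_pow, hc, pow_succ']; group),
          map_mul, map_pow, h3, mul_one, ← hi, ← pow_mul, pow_succ, mul_comm]
    have h1 : v ^ (i ^ orderOf y) = v := by
      rw [← hseq]
      simp [pow_orderOf_eq_one, hv]
    have h2 : ((i : ZMod p)) ^ orderOf y = 1 := by
      have h := pow_eq_pow_iff_modEq.mp (h1.trans (pow_one v).symm)
      rw [hvp, ← ZMod.natCast_eq_natCast_iff] at h
      simpa using h
    have h3 : ((i : ZMod p)) ^ (p - 1) = 1 := ZMod.pow_card_sub_one_eq_one (fun e => by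
      rw [e, zero_pow (orderOf_pos y).ne'] at h2
      exact zero_ne_one h2)
    have hcop : (orderOf y).Coprime (p - 1) := by
      refine Nat.coprime_of_dvd fun q hq hqg hqp => ?_
      have h4 := hmin q hq (hqg.trans (orderOf_dvd_natCard y))
      have h5 := Nat.le_of_dvd (by have := hp.out.two_le; omega) hqp
      have := hq.two_le
      omega
    have h4 : ((i : ZMod p)) = 1 := by
      have := pow_gcd_eq_one.mpr ⟨h2, h3⟩
      rwa [Nat.Coprime.gcd_eq_one hcop, pow_one] at this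
    have h5 : v ^ i = v := by
      conv_rhs => rw [← pow_one v]
      rw [pow_eq_pow_iff_modEq, hvp, ← ZMod.natCast_eq_natCast_iff, h4, Nat.cast_one]
    rw [hmem _ (Q.mul_mem (Q.inv_mem (hDP ha)) (hDP (hconjD y hyN a ha)))]
    rw [show (⟨a⁻¹ * (y * a * y⁻¹), _⟩ : ↥Q) =
      (⟨a, hDP ha⟩ : ↥Q)⁻¹ * ⟨y * a * y⁻¹, hDP (hconjD y hyN a ha)⟩ from rfl, map_mul, map_inv,
      ← hi, ← hv]
    change v⁻¹ * v ^ i = 1
    rw [h5, inv_mul_cancel]
  have hKN : K.relIndex N = 1 := by
    rw [Nat.eq_one_iff_not_exists_prime_dvd]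
    intro r hr hrd
    haveI : Fact r.Prime := ⟨hr⟩
    by_cases hrp : r = p
    · subst hrp
      exact hfull (hrd.trans (Subgroup.relIndex_dvd_of_le_left N hPK))
    · obtain ⟨R⟩ := (inferInstance : Nonempty (Sylow r N))
      have hle : (R : Subgroup N) ≤ K.subgroupOf N := by
        intro z hz
        refine hy z z.2 ?_
        obtain ⟨k, hk⟩ := IsPGroup.iff_orderOf.mp R.2 ⟨z, hz⟩
        rw [← Subgroup.orderOf_coe, ← Subgroup.orderOf_coe] at hk
        rw [hk]
        exact Nat.Coprime.pow_left k ((Nat.coprime_primes hr hp.out).mpr hrp)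
      exact R.not_dvd_index (hrd.trans (Subgroup.index_dvd_of_le hle))
  intro n hn a ha
  exact ((Subgroup.relIndex_eq_one.mp hKN) hn).2 a ha

theorem inf_commutator_le_frattini (hmin : ∀ q : ℕ, q.Prime → q ∣ Nat.card G → p ≤ q) (hd : 1 ≤ d)
    (hlt : p ^ d < Nat.card (P : Subgroup G)) (hcl : AllClosed p d (P : Subgroup G)) :
    commutator G ⊓ (P : Subgroup G) ≤
      (frattini ↥(P : Subgroup G)).map (P : Subgroup G).subtype := by
  rw [Subgroup.commutator_inf_eq_focalSubgroup P, Subgroup.focalSubgroup_def, Subgroup.closure_le]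
  rintro z ⟨hzP, x, hxP, u, rfl⟩
  have key : ∀ (A : Set G) (g : G), Transfer.Chain (fun D _ => Transfer.IsTameInter P D) A g →
      ∀ a ∈ A, a⁻¹ * (g⁻¹ * a * g) ∈
        (frattini ↥(P : Subgroup G)).map (P : Subgroup G).subtype := by
    intro A g hch
    induction hch with
    | nil A => intro a _; simp
    | @cons A x h D hS hx hA _ ih =>
      intro a ha
      obtain ⟨Q, hDQ, hfull, -⟩ := hS
      have h1 := conj_congr P hmin hd hlt hcl (hDQ ▸ inf_le_left) hfull x⁻¹ (inv_mem hx) a (hA ha)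
      rw [inv_inv] at h1
      have h2 := ih (x⁻¹ * a * x) ⟨a, ha, rfl⟩
      rw [show a⁻¹ * ((x * h)⁻¹ * a * (x * h)) = (a⁻¹ * (x⁻¹ * a * x)) *
        ((x⁻¹ * a * x)⁻¹ * (h⁻¹ * (x⁻¹ * a * x) * h)) by group]
      exact Subgroup.mul_mem _ h1 h2
  have h1 : u⁻¹⁻¹ * x⁻¹ * u⁻¹ ∈ (P : Subgroup G) := by
    have e : u⁻¹⁻¹ * x⁻¹ * u⁻¹ = x⁻¹ * ⁅x, u⁆ := by rw [commutatorElement_def]; group
    rw [e]
    exact Subgroup.mul_mem _ (Subgroup.inv_mem _ hxP) hzP
  have hch := Transfer.alperin_set P (A := {x⁻¹}) (g := u⁻¹)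
    (Set.singleton_subset_iff.mpr ((P : Subgroup G).inv_mem hxP))
    (by rintro _ ⟨w, rfl : w = x⁻¹, rfl⟩; exact h1)
  have h2 := key _ _ hch x⁻¹ rfl
  rw [show (x⁻¹)⁻¹ * (u⁻¹⁻¹ * x⁻¹ * u⁻¹) = ⁅x, u⁆ by rw [commutatorElement_def]; group] at h2
  exact h2

theorem hasNormalPComplement_of_allClosed (hmin : ∀ q : ℕ, q.Prime → q ∣ Nat.card G → p ≤ q)
    (hd : 1 ≤ d) (hlt : p ^ d < Nat.card (P : Subgroup G))
    (hcl : AllClosed p d (P : Subgroup G)) : Cfsg.HasNormalPComplement p G := by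
  refine Transfer.hasNormalPComplement_of_le_frattini P
    (le_trans ?_ (inf_commutator_le_frattini P hmin hd hlt hcl))
  rintro w ⟨hwP, hwR⟩
  refine ⟨?_, hwP⟩
  obtain ⟨a, m, hm, hcard⟩ := Nat.exists_eq_pow_mul_and_not_dvd
    (Nat.card_pos (α := G)).ne' p hp.out.ne_one
  let C : Subgroup G :=
    ((powMonoidHom m : Abelianization G →* Abelianization G).comp Abelianization.of).ker
  have hC : Cfsg.pResidual p G ≤ C := by
    rw [Cfsg.pResidual, Subgroup.closure_le]
    intro y hy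
    show (Abelianization.of y) ^ m = 1
    rw [← map_pow]
    have h1 : orderOf y ∣ m := (Nat.Coprime.pow_right a hy).dvd_of_dvd_mul_left
      (hcard ▸ orderOf_dvd_natCard y)
    rw [orderOf_dvd_iff_pow_eq_one.mp h1, map_one]
  obtain ⟨k, hk⟩ := IsPGroup.iff_orderOf.mp P.2 ⟨w, hwP⟩
  rw [← Subgroup.orderOf_coe] at hk
  have h2 : (Abelianization.of w) ^ m = 1 := hC hwR
  have h3 : (Abelianization.of w) ^ (p ^ k) = 1 := by
    rw [← map_pow, ← hk, pow_orderOf_eq_one, map_one]
  have h4 := pow_gcd_eq_one.mpr ⟨h2, h3⟩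
  rw [Nat.Coprime.gcd_eq_one ((hp.out.coprime_iff_not_dvd.mpr hm).symm.pow_right k), pow_one] at h4
  rw [← Abelianization.ker_of]
  exact h4

/-- A cyclic Sylow subgroup for the smallest prime has a normal complement. -/
theorem hasNormalPComplement_of_cyclic (hmin : ∀ q : ℕ, q.Prime → q ∣ Nat.card G → p ≤ q)
    (hP : IsCyclic ↥(P : Subgroup G)) : Cfsg.HasNormalPComplement p G := by
  obtain ⟨t, ht⟩ := Transfer.exists_zpowers_eq_of_isCyclic _ hP
  by_cases ht1 : t = 1
  · refine Transfer.hasNormalPComplement_of_central P ?_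
    rw [ht, ht1, Subgroup.zpowers_one_eq_bot]
    exact bot_le
  refine Transfer.hasNormalPComplement_of_normalizer_le_centralizer P
    (Transfer.normalizer_le_centralizer_of_zpow P ht fun g hg hgc r hr => ?_)
  set N := Subgroup.normalizer ((P : Subgroup G) : Set G) with hN
  set Q := (P : Subgroup G).subgroupOf N with hQ
  haveI : Q.Normal := Subgroup.normal_in_normalizer
  haveI : IsCyclic Q :=
    isCyclic_of_surjective (Subgroup.subgroupOfEquivOfLe (H := (P : Subgroup G))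
      Subgroup.le_normalizer).symm.toMonoidHom
      (Subgroup.subgroupOfEquivOfLe (H := (P : Subgroup G)) Subgroup.le_normalizer).symm.surjective
  have hc := centralizes_of_coatoms_normal (p := p) (Q := Q) (g := ⟨g, hg⟩)
    (P.2.of_equiv (Subgroup.subgroupOfEquivOfLe Subgroup.le_normalizer).symm)
    (fun M _ => by
      haveI : M.Characteristic := by
        rw [Subgroup.characteristic_iff_map_le]
        intro e z hz
        obtain ⟨w, hw, rfl⟩ := hz
        obtain ⟨j, hj⟩ := MonoidHom.map_cyclic e.toMonoidHom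
        rw [hj w]
        exact M.zpow_mem hw j
      infer_instance)
    (trivSec_of_smallest (fun q hq h => hmin q hq (h.trans N.card_subgroup_dvd_card))
      (by rwa [← Subgroup.orderOf_coe])) (by rwa [← Subgroup.orderOf_coe])
  have htP : t ∈ (P : Subgroup G) := ht ▸ Subgroup.mem_zpowers t
  have h1 := congrArg Subtype.val (hc ⟨t, Subgroup.le_normalizer htP⟩ htP)
  simp only [Subgroup.coe_mul] at h1
  have h2 : t ^ (r - 1) = 1 := by
    rw [zpow_sub_one, ← hr, ← h1, mul_inv_cancel_right, mul_inv_cancel]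
  obtain ⟨k, hk⟩ := IsPGroup.iff_orderOf.mp P.2 ⟨t, htP⟩
  rw [← Subgroup.orderOf_coe] at hk
  change orderOf t = p ^ k at hk
  have hk0 : k ≠ 0 := by
    rintro rfl
    exact ht1 (orderOf_eq_one_iff.mp hk)
  exact (Int.natCast_dvd_natCast.mpr (dvd_pow_self p hk0)).trans
    (hk ▸ orderOf_dvd_iff_zpow_eq_one.mpr h2)

end CfsgLib.HSub
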