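import Mathlib
import Cfsg.Agent.Lib.HSub.Fusion
import Cfsg.Agent.Lib.Supersolvable.Basic
import Cfsg.Agent.Lib.Huppert.Supersolvable
import Cfsg.Agent.Lib.Coprime.SchurZassenhaus

/-!
Supersolvability from subgroups of one order being `H`-subgroups.
-/

set_option autoImplicit false
set_option linter.style.haveILetI false

open scoped commutatorElement Pointwise

namespace CfsgLib.HSub

universe u

/-- `F` is an `H`-subgroup. -/
def IsHSub {G : Type*} [Group G] (F : Subgroup G) : Prop :=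
  ∀ g : G, F.map (MulAut.conj g).toMonoidHom ⊓ Subgroup.normalizer (F : Set G) ≤ F

/-- A `p`-group of automorphisms of a nontrivial `p`-group fixes a nontrivial element. -/
theorem exists_fixed_ne_one {p : ℕ} [Fact p.Prime] {N : Type*} [Group N] [Finite N] [Nontrivial N]
    (hN : IsPGroup p N) (H : Subgroup (MulAut N)) (hH : IsPGroup p H) :
    ∃ x : N, x ≠ 1 ∧ ∀ h ∈ H, h x = x := by
  obtain ⟨k, hk0, hk⟩ := hN.nontrivial_iff_card.mp inferInstance
  obtain ⟨b, hb, hne⟩ := hH.exists_fixed_point_of_prime_dvd_card_of_fixed_point N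
    (hk ▸ dvd_pow_self p hk0.ne') (a := 1) (fun h => map_one (h : MulAut N))
  exact ⟨b, Ne.symm hne, fun h hh => hb ⟨h, hh⟩⟩

/-- If `G / Q` is supersolvable and commutators and `(p - 1)`-th powers act on the normal
`p`-subgroup `Q` as `p`-elements, then `G` is supersolvable. -/
theorem isSupersolvable_of_quotient {G : Type u} [Group G] [Finite G] {p : ℕ} [Fact p.Prime]
    (Q : Subgroup G) [Q.Normal] (hQ : IsPGroup p Q) (hq : Cfsg.IsSupersolvable (G ⧸ Q))
    (hc : ∀ w ∈ commutator G, ∃ k : ℕ, ∀ x ∈ Q, Commute (w ^ p ^ k) x)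
    (hpow : ∀ a : G, ∃ k : ℕ, ∀ x ∈ Q, Commute ((a ^ (p - 1)) ^ p ^ k) x) :
    Cfsg.IsSupersolvable G := by
  suffices H : ∀ (n : ℕ) (G : Type u) [Group G] [Finite G] (Q : Subgroup G) [Q.Normal],
      Nat.card G = n → IsPGroup p Q → Cfsg.IsSupersolvable (G ⧸ Q) →
      (∀ w ∈ commutator G, ∃ k : ℕ, ∀ x ∈ Q, Commute (w ^ p ^ k) x) →
      (∀ a : G, ∃ k : ℕ, ∀ x ∈ Q, Commute ((a ^ (p - 1)) ^ p ^ k) x) → Cfsg.IsSupersolvable G from
    H _ G Q rfl hQ hq hc hpow
  clear! G
  intro n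
  induction n using Nat.strong_induction_on with
  | _ n IH =>
  intro G _ _ Q _ hn hQ hq hc hpow
  subst hn
  rcases eq_or_ne Q ⊥ with hbot | hbot
  · exact Supersolvable.of_mulEquiv hq
      ((QuotientGroup.quotientMulEquivOfEq hbot).trans QuotientGroup.quotientBot)
  haveI : Finite (Subgroup G) := Finite.of_injective (fun K => (K : Set G)) SetLike.coe_injective
  obtain ⟨N, hN, hNmin⟩ := (Set.toFinite {N : Subgroup G | N.Normal ∧ N ≤ Q ∧ N ≠ ⊥}).exists_minimal
    ⟨Q, inferInstance, le_rfl, hbot⟩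
  obtain ⟨hNn, hNQ, hNne⟩ := hN
  haveI := hNn
  have hmin : ∀ M : Subgroup G, M.Normal → M ≤ N → M ≠ ⊥ → N ≤ M := fun M h1 h2 h3 =>
    hNmin ⟨h1, h2.trans hNQ, h3⟩ h2
  have hNp : IsPGroup p N := hQ.to_le hNQ
  haveI : Nontrivial N := (Subgroup.nontrivial_iff_ne_bot N).mpr hNne
  -- the fixed elements of a set commuting with the action form a normal subgroup
  set φ : G →* MulAut N := MulAut.conjNormal with hφ
  have hfixall : ∀ S : Subgroup (MulAut N), (∀ a : G, ∀ s ∈ S, (φ a)⁻¹ * s * φ a ∈ S) →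
      (∃ x : N, x ≠ 1 ∧ ∀ s ∈ S, s x = x) → ∀ s ∈ S, s = 1 := by
    intro S hS ⟨x, hx1, hx⟩
    let F : Subgroup G :=
      { carrier := {z | ∃ h : z ∈ N, ∀ s ∈ S, s ⟨z, h⟩ = ⟨z, h⟩}
        one_mem' := ⟨N.one_mem, fun s _ => map_one s⟩
        mul_mem' := fun ⟨h1, h1'⟩ ⟨h2, h2'⟩ => ⟨N.mul_mem h1 h2, fun s hs => by
          have := map_mul s ⟨_, h1⟩ ⟨_, h2⟩
          rw [h1' s hs, h2' s hs] at this
          exact this⟩
        inv_mem' := fun ⟨h1, h1'⟩ => ⟨N.inv_mem h1, fun s hs => by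
          have := map_inv s ⟨_, h1⟩
          rw [h1' s hs] at this
          exact this⟩ }
    have hFn : F.Normal := ⟨fun z ⟨hz, hz'⟩ a => ⟨hNn.conj_mem z hz a, fun s hs => by
      have e : (⟨a * z * a⁻¹, hNn.conj_mem z hz a⟩ : N) = φ a ⟨z, hz⟩ :=
        Subtype.ext (MulAut.conjNormal_apply a ⟨z, hz⟩).symm
      rw [e]
      have h1 := hz' _ (hS a s hs)
      have h2 : φ a (((φ a)⁻¹ * s * φ a) ⟨z, hz⟩) = s (φ a ⟨z, hz⟩) := by
        simp [MulAut.mul_apply]
      rw [h1] at h2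
      exact h2.symm⟩⟩
    have hle := hmin F hFn (fun z ⟨h, _⟩ => h) (fun e => hx1 (Subtype.ext (by
      have : (x : G) ∈ F := ⟨x.2, hx⟩
      rw [e] at this
      exact this)))
    intro s hs
    ext z
    obtain ⟨_, h⟩ := hle z.2
    exact congrArg Subtype.val (h s hs)
  -- `N` is central in `Q`
  have hpel : ∀ s : MulAut N, (∃ k : ℕ, s ^ p ^ k = 1) → IsPGroup p (Subgroup.zpowers s) :=
    fun s ⟨k, hk⟩ y => by
      obtain ⟨j, hj⟩ := Subgroup.mem_zpowers_iff.mp y.2
      refine ⟨k, Subtype.ext ?_⟩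
      rw [SubmonoidClass.coe_pow, ← hj, ← zpow_natCast, ← zpow_mul, mul_comm, zpow_mul,
        zpow_natCast, hk, one_zpow, OneMemClass.coe_one]
  have hconj1 : ∀ a b : G, φ a = φ b → ∀ z : N, a * z * a⁻¹ = b * z * b⁻¹ := fun a b h z => by
    rw [← MulAut.conjNormal_apply, ← MulAut.conjNormal_apply]
    exact congrArg Subtype.val (DFunLike.congr_fun h z)
  set A := (commutator G).map φ with hA
  have hAp : IsPGroup p A := by
    rintro ⟨_, w, hw, rfl⟩
    obtain ⟨k, hk⟩ := hc w hw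
    refine ⟨k, Subtype.ext ?_⟩
    rw [SubmonoidClass.coe_pow, ← map_pow, OneMemClass.coe_one]
    ext z
    rw [hφ, MulAut.conjNormal_apply, (hk z (hNQ z.2)).eq, mul_inv_cancel_right, MulAut.one_apply]
  have hAone : ∀ s ∈ A, s = 1 := hfixall A (fun a s hs => by
    obtain ⟨w, hw, rfl⟩ := hs
    refine ⟨a⁻¹ * w * a, ?_, by rw [map_mul, map_mul, map_inv]⟩
    simpa using (inferInstance : (commutator G).Normal).conj_mem w hw a⁻¹)
    (exists_fixed_ne_one hNp A hAp)
  have hcomm : ∀ a b : G, φ a * φ b = φ b * φ a := fun a b => by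
    refine commutatorElement_eq_one_iff_mul_comm.mp ?_
    rw [← map_commutatorElement]
    exact hAone _ (Subgroup.mem_map_of_mem φ
      (Subgroup.commutator_mem_commutator (Subgroup.mem_top a) (Subgroup.mem_top b)))
  have hexp : ∀ a : G, φ a ^ (p - 1) = 1 := by
    intro a
    obtain ⟨k, hk⟩ := hpow a
    have h1 : (φ a ^ (p - 1)) ^ p ^ k = 1 := by
      rw [← map_pow, ← map_pow]
      ext z
      rw [hφ, MulAut.conjNormal_apply, (hk z (hNQ z.2)).eq, mul_inv_cancel_right,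
        MulAut.one_apply]
    refine hfixall (Subgroup.zpowers (φ a ^ (p - 1))) (fun b s hs => ?_)
      (exists_fixed_ne_one hNp _ (hpel _ ⟨k, h1⟩)) _ (Subgroup.mem_zpowers _)
    obtain ⟨j, rfl⟩ := hs
    refine ⟨j, ?_⟩
    have hc2 : Commute (φ b) ((φ a ^ (p - 1)) ^ j) :=
      (Commute.pow_right (hcomm b a) _).zpow_right j
    rw [mul_assoc, ← hc2.eq, inv_mul_cancel_left]
  -- `N` is abelian of exponent `p`
  obtain ⟨z₀, hz₀, hz₀'⟩ := exists_fixed_ne_one hNp ((MulAut.conj (G := N)).range)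
    ((hNp.to_quotient ⊥).of_equiv QuotientGroup.quotientBot |>.of_surjective
      (MulAut.conj (G := N)).rangeRestrict (MulAut.conj (G := N)).rangeRestrict_surjective)
  have hab : ∀ x y : N, x * y = y * x := by
    intro x y
    have h := hfixall ((MulAut.conj (G := N)).range) (fun a s hs => by
      obtain ⟨w, rfl⟩ := hs
      refine ⟨(φ a)⁻¹ w, ?_⟩
      ext z
      simp [MulAut.mul_apply]) ⟨z₀, hz₀, hz₀'⟩ (MulAut.conj x) ⟨x, rfl⟩
    have := DFunLike.congr_fun h y
    rw [MulAut.conj_apply, MulAut.one_apply] at this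
    exact mul_inv_eq_iff_eq_mul.mp this
  have hmp : ∀ (x y : N) (m : ℕ), (x * y) ^ m = x ^ m * y ^ m := fun x y m =>
    Commute.mul_pow (hab x y) m
  have hexpN : ∀ x : N, x ^ p = 1 := by
    let E : Subgroup G :=
      { carrier := {z | ∃ h : z ∈ N, (⟨z, h⟩ : N) ^ p = 1}
        one_mem' := ⟨N.one_mem, one_pow p⟩
        mul_mem' := fun ⟨h1, h1'⟩ ⟨h2, h2'⟩ => ⟨N.mul_mem h1 h2, by
          rw [show (⟨_, N.mul_mem h1 h2⟩ : N) = ⟨_, h1⟩ * ⟨_, h2⟩ from rfl, hmp, h1', h2',
            one_mul]⟩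
        inv_mem' := fun ⟨h1, h1'⟩ => ⟨N.inv_mem h1, by
          rw [show (⟨_, N.inv_mem h1⟩ : N) = (⟨_, h1⟩ : N)⁻¹ from rfl, inv_pow, h1', inv_one]⟩ }
    have hEn : E.Normal := ⟨fun z ⟨hz, hz'⟩ a => ⟨hNn.conj_mem z hz a, by
      rw [show (⟨a * z * a⁻¹, hNn.conj_mem z hz a⟩ : N) = φ a ⟨z, hz⟩ from
        Subtype.ext (MulAut.conjNormal_apply a ⟨z, hz⟩).symm, ← map_pow, hz', map_one]⟩⟩
    obtain ⟨k, hk0, hk⟩ := hNp.nontrivial_iff_card.mp inferInstance
    obtain ⟨w, hw⟩ := exists_prime_orderOf_dvd_card' (G := N) p (hk ▸ dvd_pow_self p hk0.ne')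
    have hle := hmin E hEn (fun z ⟨h, _⟩ => h) (fun e => by
      have : (w : G) ∈ E := ⟨w.2, by rw [← hw]; exact pow_orderOf_eq_one w⟩
      rw [e, Subgroup.mem_bot] at this
      have hw1 : w = 1 := Subtype.ext this
      rw [hw1, orderOf_one] at hw
      exact (Fact.out : p.Prime).ne_one hw.symm)
    intro x
    obtain ⟨_, h⟩ := hle x.2
    exact h
  -- every element acts as a power map
  have hscal : ∀ a : G, ∃ i : ℕ, ∀ x : N, φ a x = x ^ i := by
    intro a
    obtain ⟨i, x, hx, hxe⟩ := @Huppert.exists_power_eigen N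
      { (inferInstance : Group N) with mul_comm := hab } _ _ p _ hexpN (φ a).toMonoidHom (fun x => by
      have hit : ∀ m : ℕ, (⇑(φ a).toMonoidHom)^[m] x = (φ a ^ m) x := by
        intro m
        induction m with
        | zero => rfl
        | succ m ih => rw [Function.iterate_succ_apply', ih, pow_succ', MulAut.mul_apply]; rfl
      rw [hit, hexp, MulAut.one_apply])
    let E : Subgroup G :=
      { carrier := {z | ∃ h : z ∈ N, φ a ⟨z, h⟩ = (⟨z, h⟩ : N) ^ i}
        one_mem' := ⟨N.one_mem, by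
          rw [show (⟨1, N.one_mem⟩ : N) = 1 from rfl, map_one, one_pow]⟩
        mul_mem' := fun ⟨h1, h1'⟩ ⟨h2, h2'⟩ => ⟨N.mul_mem h1 h2, by
          rw [show (⟨_, N.mul_mem h1 h2⟩ : N) = ⟨_, h1⟩ * ⟨_, h2⟩ from rfl, map_mul, h1', h2',
            hmp]⟩
        inv_mem' := fun ⟨h1, h1'⟩ => ⟨N.inv_mem h1, by
          rw [show (⟨_, N.inv_mem h1⟩ : N) = (⟨_, h1⟩ : N)⁻¹ from rfl, map_inv, h1', inv_pow]⟩ }
    have hEn : E.Normal := ⟨fun z ⟨hz, hz'⟩ b => ⟨hNn.conj_mem z hz b, by
      rw [show (⟨b * z * b⁻¹, hNn.conj_mem z hz b⟩ : N) = φ b ⟨z, hz⟩ from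
        Subtype.ext (MulAut.conjNormal_apply b ⟨z, hz⟩).symm, ← MulAut.mul_apply, hcomm a b,
        MulAut.mul_apply, hz', map_pow]⟩⟩
    have hle := hmin E hEn (fun z ⟨h, _⟩ => h) (fun e => hx (Subtype.ext (by
      have : (x : G) ∈ E := ⟨x.2, hxe⟩
      rw [e] at this
      exact this)))
    exact ⟨i, fun y => (hle y.2).2⟩
  obtain ⟨x, hx⟩ := exists_ne (1 : N)
  have hcyc : N = Subgroup.zpowers (x : G) := by
    refine le_antisymm ?_ (Subgroup.zpowers_le.mpr x.2)
    refine hmin _ ⟨fun z hz a => ?_⟩ (Subgroup.zpowers_le.mpr x.2)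
      (fun e => hx (Subtype.ext (Subgroup.zpowers_eq_bot.mp e)))
    obtain ⟨j, rfl⟩ := hz
    obtain ⟨i, hi⟩ := hscal a
    have h1 : a * (x : G) * a⁻¹ = (x : G) ^ i := by
      rw [← MulAut.conjNormal_apply, ← hφ, hi, SubmonoidClass.coe_pow]
    rw [← conj_zpow, h1]
    exact Subgroup.zpow_mem _ (Subgroup.pow_mem _ (Subgroup.mem_zpowers _) i) j
  haveI : IsCyclic N := by rw [hcyc]; infer_instance
  set f := QuotientGroup.mk' N with hf
  have hfs : Function.Surjective f := QuotientGroup.mk'_surjective N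
  haveI : (Q.map f).Normal := Subgroup.Normal.map inferInstance f hfs
  refine Supersolvable.of_quotient_cyclic N (IH _ ?_ (G ⧸ N) (Q.map f) rfl (hQ.map f) ?_ ?_ ?_)
  · rw [← Subgroup.card_mul_index N, ← Subgroup.index_eq_card]
    exact lt_mul_of_one_lt_left (Nat.pos_of_ne_zero Subgroup.index_ne_zero_of_finite)
      Finite.one_lt_card
  · exact Supersolvable.of_mulEquiv hq (QuotientGroup.quotientQuotientEquivQuotient N Q hNQ).symm
  · intro w hw
    rw [commutator_def, ← Subgroup.map_top_of_surjective f hfs, ← Subgroup.map_commutator,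
      ← commutator_def] at hw
    obtain ⟨w, hw', rfl⟩ := hw
    obtain ⟨k, hk⟩ := hc w hw'
    exact ⟨k, fun y ⟨x, hx, e⟩ => by rw [← e, ← map_pow]; exact (hk x hx).map f⟩
  · intro a
    obtain ⟨a, rfl⟩ := hfs a
    obtain ⟨k, hk⟩ := hpow a
    exact ⟨k, fun y ⟨x, hx, e⟩ => by rw [← e, ← map_pow, ← map_pow]; exact (hk x hx).map f⟩

variable {G : Type u} [Group G] [Finite G]

theorem exists_coprime_power (p : ℕ) [hp : Fact p.Prime] (w : G) :
    ∃ k : ℕ, (orderOf (w ^ p ^ k)).Coprime p := by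
  obtain ⟨a, m, hm, -, hc, -⟩ := Transfer.exists_pow_coprime_part (p := p) w
  exact ⟨a, hc⟩

/-- The hypothesis on the Sylow subgroups of `E`. -/
def HypE (E : Subgroup G) : Prop :=
  ∀ (p : ℕ), p.Prime → ∀ P : Subgroup G, P ≤ E → IsPGroup p P → ¬ p ∣ P.relIndex E →
    ¬ IsCyclic ↥P → ∃ D : Subgroup G, D ≤ P ∧ 1 < Nat.card D ∧ Nat.card D < Nat.card P ∧
      ∀ F : Subgroup G, F ≤ P → (Nat.card F = Nat.card D ∨ (Nat.card D = 2 ∧ Nat.card F = 4)) →
        IsHSub F

theorem exists_normal_sylow (E : Subgroup G) (h : HypE E) :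
    ∀ (n : ℕ) (K : Subgroup G), Nat.card K = n → K.Normal → K ≤ E → K ≠ ⊥ →
      (∀ r : ℕ, r.Prime → r ∣ Nat.card K → ¬ r ∣ K.relIndex E) →
      ∃ (q : ℕ) (Q : Subgroup G), q.Prime ∧ Q.Normal ∧ Q ≤ E ∧ Q ≠ ⊥ ∧ IsPGroup q Q ∧
        ¬ q ∣ Q.relIndex E := by
  intro n
  induction n using Nat.strong_induction_on with
  | _ n IH =>
  intro K hn hKn hKE hK hhall
  subst hn
  haveI := hKn
  have hcard : Nat.card K ≠ 1 := fun e => hK (Subgroup.card_eq_one.mp e)
  set p := (Nat.card K).minFac with hp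
  have hpp : p.Prime := Nat.minFac_prime hcard
  haveI : Fact p.Prime := ⟨hpp⟩
  have hmin : ∀ q : ℕ, q.Prime → q ∣ Nat.card K → p ≤ q := fun q hq hd =>
    Nat.minFac_le_of_dvd hq.two_le hd
  have hpd : p ∣ Nat.card K := Nat.minFac_dvd _
  obtain ⟨P⟩ := (inferInstance : Nonempty (Sylow p K))
  have hcomp : Cfsg.HasNormalPComplement p K := by
    by_cases hc : IsCyclic ↥(P : Subgroup K)
    · exact hasNormalPComplement_of_cyclic P hmin hc
    set P₀ := (P : Subgroup K).map K.subtype with hP₀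
    have hP₀K : P₀ ≤ K := Subgroup.map_subtype_le _
    have e := Subgroup.equivMapOfInjective (P : Subgroup K) K.subtype K.subtype_injective
    have hrel : ¬ p ∣ P₀.relIndex E := by
      rw [← Subgroup.relIndex_mul_relIndex P₀ K E hP₀K hKE]
      intro hd
      rcases hpp.dvd_mul.mp hd with h1 | h1
      · rw [Subgroup.relIndex, Subgroup.subgroupOf, hP₀,
          Subgroup.comap_map_eq_self_of_injective K.subtype_injective] at h1
        exact P.not_dvd_index h1
      · exact hhall p hpp hpd h1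
    obtain ⟨D, hD, h1, h2, hF⟩ := h p hpp P₀ (hP₀K.trans hKE) (P.2.map _) hrel
      (fun hcy => hc (isCyclic_of_surjective e.symm.toMonoidHom e.symm.surjective))
    obtain ⟨d, hd⟩ := IsPGroup.iff_card.mp ((P.2.map K.subtype).to_le hD)
    rw [hd] at h1 h2
    rw [← Nat.card_congr e.toEquiv] at h2
    refine hasNormalPComplement_of_allClosed (d := d) P hmin
      (Nat.one_le_iff_ne_zero.mpr fun e => by simp [e] at h1) h2 fun F hFP hFc g x hx hgx => ?_
    have h3 := (closed_of_hsub (P.2.map K.subtype) (Subgroup.map_mono hFP)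
      (hF (F.map K.subtype) (Subgroup.map_mono hFP) (by
        rw [hd, Subgroup.card_map_of_injective K.subtype_injective]; exact hFc))).2 g x
      (Subgroup.mem_map_of_mem _ hx) ⟨g * x * g⁻¹, hgx, rfl⟩
    obtain ⟨y, hy, hye⟩ := h3
    rwa [← Subtype.ext (show (y : G) = ((g * x * g⁻¹ : K) : G) from hye)]
  by_cases hKp : IsPGroup p K
  · exact ⟨p, K, hpp, hKn, hKE, hK, hKp, hhall p hpp hpd⟩
  set R := (Cfsg.pResidual p K).map K.subtype with hR
  obtain ⟨P', N, hN, hNc⟩ := hcomp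
  haveI := hN
  have hNidx : N.index = Nat.card (P' : Subgroup K) := hNc.symm.index_eq_card
  have hNcard : (Nat.card N).Coprime p := by
    rw [Nat.coprime_comm, hpp.coprime_iff_not_dvd]
    have h1 := hNc.index_eq_card
    rw [← h1]
    exact P'.not_dvd_index
  obtain ⟨a, ha⟩ := IsPGroup.iff_card.mp P'.2
  have hNq : IsPGroup p (K ⧸ N) :=
    IsPGroup.of_card (n := a) (by rw [← Subgroup.index_eq_card, hNidx, ha])
  have hNeq := Transfer.eq_pResidual hNcard hNq
  haveI : (Cfsg.pResidual p K).Characteristic := by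
    rw [Subgroup.characteristic_iff_map_le]
    exact fun e => Transfer.map_pResidual_le e.toMonoidHom
  have hRn : R.Normal := by rw [hR]; infer_instance
  have hRK : R ≤ K := Subgroup.map_subtype_le _
  have hRc : Nat.card R = Nat.card N := by
    rw [hR, Subgroup.card_map_of_injective K.subtype_injective, hNeq]
  have hRrel : R.relIndex K = p ^ a := by
    rw [Subgroup.relIndex, Subgroup.subgroupOf, hR,
      Subgroup.comap_map_eq_self_of_injective K.subtype_injective, ← hNeq, hNidx, ha]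
  have hne : R ≠ ⊥ := by
    intro e
    rw [e, Subgroup.card_bot] at hRc
    apply hKp
    refine IsPGroup.of_card (n := a) ?_
    rw [← N.card_mul_index, ← hRc, hNidx, ha, one_mul]
  refine IH _ ?_ R rfl hRn (hRK.trans hKE) hne fun r hr hrd => ?_
  · rw [hRc, ← N.card_mul_index, hNidx]
    refine lt_mul_of_one_lt_right Nat.card_pos ?_
    have hd : p ∣ Nat.card (P' : Subgroup K) := P'.dvd_card_of_dvd_card hpd
    exact lt_of_lt_of_le hpp.one_lt (Nat.le_of_dvd Nat.card_pos hd)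
  · have hrp : r ≠ p := by
      rintro rfl
      rw [hRc] at hrd
      exact hpp.ne_one (Nat.Coprime.eq_one_of_dvd hNcard.symm hrd)
    rw [← Subgroup.relIndex_mul_relIndex R K E hRK hKE, hRrel]
    intro hd
    rcases hr.dvd_mul.mp hd with h1 | h1
    · exact hrp ((Nat.prime_dvd_prime_iff_eq hr hpp).mp (hr.dvd_of_dvd_pow h1))
    · exact hhall r hr (hrd.trans (Subgroup.card_dvd_of_le hRK)) h1

/-- The hypothesis passes to the quotient by a normal Sylow subgroup. -/
theorem hypE_map (E Q : Subgroup G) [Q.Normal] {q : ℕ} [hq : Fact q.Prime] (hQ : IsPGroup q Q)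
    (hQE : Q ≤ E) (hQrel : ¬ q ∣ Q.relIndex E) (h : HypE E) :
    HypE (E.map (QuotientGroup.mk' Q)) := by
  intro r hr P' hP'E hP' hrel hnc
  haveI : Fact r.Prime := ⟨hr⟩
  set f := QuotientGroup.mk' Q with hf
  have hfs : Function.Surjective f := QuotientGroup.mk'_surjective Q
  have hker : f.ker = Q := QuotientGroup.ker_mk' Q
  set W := P'.comap f with hW
  have hQW : Q ≤ W := QuotientGroup.le_comap_mk' Q P'
  have hWE : W ≤ E := by
    refine (Subgroup.comap_mono hP'E).trans ?_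
    rw [Subgroup.comap_map_eq, hker]
    exact sup_le le_rfl hQE
  have hWmap : W.map f = P' := Subgroup.map_comap_eq_self_of_surjective hfs P'
  have hWQ : Q.relIndex W = Nat.card P' := by
    have h1 := Subgroup.relIndex_ker (K := W) f
    rw [hker, hWmap] at h1
    exact h1
  have hrq : r ≠ q := by
    rintro rfl
    apply hnc
    have h1 : Q.relIndex W ∣ Q.relIndex E := Dvd.intro _ (Subgroup.relIndex_mul_relIndex Q W E hQW hWE)
    obtain ⟨k, hk⟩ := IsPGroup.iff_card.mp hP'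
    rcases k with _ | k
    · haveI := (Nat.card_eq_one_iff_unique.mp (hk.trans (pow_zero r))).1
      exact isCyclic_of_subsingleton
    · exact absurd ((dvd_pow_self r (Nat.succ_ne_zero k)).trans (hk ▸ hWQ ▸ h1)) hQrel
  obtain ⟨S⟩ := (inferInstance : Nonempty (Sylow r W))
  set P := (S : Subgroup W).map W.subtype with hP
  have hPp : IsPGroup r P := S.2.map _
  have hPW : P ≤ W := Subgroup.map_subtype_le _
  have hcopQ : ∀ F : Subgroup G, IsPGroup r F → (Nat.card Q).Coprime (Nat.card F) := by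
    intro F hF
    obtain ⟨i, hi⟩ := IsPGroup.iff_card.mp hQ
    obtain ⟨j, hj⟩ := IsPGroup.iff_card.mp hF
    rw [hi, hj]
    exact Nat.coprime_pow_primes _ _ hq.out hr (Ne.symm hrq)
  have hinjP : ∀ F : Subgroup G, IsPGroup r F → ∀ x ∈ F, f x = 1 → x = 1 := by
    intro F hF x hx hfx
    have h1 := Coprime.inf_eq_bot_of_coprime_card (hcopQ F hF)
    exact (Subgroup.mem_bot.mp (h1 ▸ ⟨(QuotientGroup.eq_one_iff x).mp hfx, hx⟩))
  have hcardF : ∀ F : Subgroup G, IsPGroup r F → Nat.card (F.map f) = Nat.card F := by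
    intro F hF
    have hinj : Function.Injective (f.comp F.subtype) :=
      (injective_iff_map_eq_one _).mpr fun x hx => Subtype.ext (hinjP F hF x x.2 hx)
    rw [show F.map f = (f.comp F.subtype).range by rw [MonoidHom.range_comp, Subgroup.range_subtype]]
    exact (Nat.card_congr (MonoidHom.ofInjective hinj).toEquiv).symm
  have hPmap : P.map f = P' := by
    refine Subgroup.eq_of_le_of_card_ge ((Subgroup.map_mono hPW).trans hWmap.le) ?_
    rw [hcardF P hPp, hP, Subgroup.card_map_of_injective W.subtype_injective]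
    obtain ⟨k, hk⟩ := IsPGroup.iff_card.mp hP'
    rw [hk]
    refine Nat.le_of_dvd Nat.card_pos (S.pow_dvd_card_of_pow_dvd_card ?_)
    rw [← hk, ← hWQ]
    exact Subgroup.relIndex_dvd_card Q W
  have hPrel : ¬ r ∣ P.relIndex E := by
    rw [← Subgroup.relIndex_mul_relIndex P W E hPW hWE]
    intro hd
    rcases hr.dvd_mul.mp hd with h1 | h1
    · rw [Subgroup.relIndex, Subgroup.subgroupOf, hP,
        Subgroup.comap_map_eq_self_of_injective W.subtype_injective] at h1
      exact S.not_dvd_index h1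
    · refine hrel (h1.trans ?_)
      have h2 := Subgroup.relIndex_comap (f := f) (H := P') (K := E)
      exact h2.dvd
  have hPnc : ¬ IsCyclic ↥P := by
    intro hc
    apply hnc
    rw [← hPmap]
    exact isCyclic_of_surjective (f.subgroupMap P) (f.subgroupMap_surjective P)
  obtain ⟨D, hDP, h1, h2, hF⟩ := h r hr P (hPW.trans hWE) hPp hPrel hPnc
  refine ⟨D.map f, hPmap ▸ Subgroup.map_mono hDP, by rwa [hcardF D (hPp.to_le hDP)],
    by rwa [hcardF D (hPp.to_le hDP), ← hPmap, hcardF P hPp], fun F' hF'P hF'c => ?_⟩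
  set F := P ⊓ F'.comap f with hFdef
  have hFp : IsPGroup r F := hPp.to_le inf_le_left
  have hFmap : F.map f = F' := by
    refine le_antisymm (Subgroup.map_le_iff_le_comap.mpr inf_le_right) fun z hz => ?_
    obtain ⟨x, hx, rfl⟩ := (hPmap ▸ hF'P hz : z ∈ P.map f)
    exact ⟨x, ⟨hx, hz⟩, rfl⟩
  have hFH : IsHSub F := hF F inf_le_left (by
    rw [← hcardF F hFp, hFmap]
    rwa [hcardF D (hPp.to_le hDP)] at hF'c)
  intro g'
  obtain ⟨g, rfl⟩ := hfs g'
  rintro z ⟨hzg, hzN⟩
  rw [← hFmap, Subgroup.mem_map]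
  obtain ⟨n, hn⟩ := hfs z
  -- lift into the normalizer
  have hnorm : n ∈ Subgroup.normalizer (F : Set G) ⊔ Q := by
    have h1 : Q ⊔ MulAut.conj n • F = Q ⊔ F := by
      apply Subgroup.map_injective_of_ker_le f (hker.le.trans le_sup_left)
        (hker.le.trans le_sup_left)
      rw [Subgroup.map_sup, Subgroup.map_sup, (Subgroup.map_eq_bot_iff _).mpr hker.ge, bot_sup_eq,
        bot_sup_eq, Coprime.map_conj_smul, hFmap, hn, Coprime.conj_smul_eq_self_of_mem_normalizer hzN]
    obtain ⟨x, hx, hxe⟩ := Coprime.exists_conj_of_coprime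
      (H := MulAut.conj n • F) (K := F) (N := Q)
      (fun y _ => by rw [Subgroup.normalizer_eq_top]; trivial)
      (by rw [Coprime.card_conj_smul]; exact hcopQ F hFp) (hcopQ F hFp) h1
      (Or.inl (by haveI := hQ.isNilpotent; infer_instance))
    rw [← mul_smul, ← map_mul] at hxe
    have h2 : x * n ∈ Subgroup.normalizer (F : Set G) :=
      Coprime.mem_normalizer_iff_conj_smul.mpr hxe
    rw [show n = x⁻¹ * (x * n) by group]
    exact Subgroup.mul_mem _ (Subgroup.mem_sup_right (Q.inv_mem hx)) (Subgroup.mem_sup_left h2)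
  obtain ⟨m, hm, y, hy, rfl⟩ := Subgroup.mem_sup_of_normal_right.mp hnorm
  have hfm : f m = z := by
    rw [← hn, map_mul, show f y = 1 from (QuotientGroup.eq_one_iff y).mpr hy, mul_one]
  -- the `r`-part of the lift
  obtain ⟨i, c, hc, hmo, -, hmc⟩ := Transfer.exists_pow_coprime_part (p := r) m
  obtain ⟨j, -, hj⟩ := Nat.exists_mul_mod_eq_one_of_coprime
    ((hr.coprime_iff_not_dvd.mpr hc).symm.pow_right (i + 1))
    (Nat.one_lt_pow (Nat.succ_ne_zero i) hr.one_lt)
  set w := m ^ (c * j) with hwdef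
  have hfw : f w = z := by
    have hzr : orderOf z ∣ r ^ (i + 1) := by
      obtain ⟨k, hk⟩ := IsPGroup.iff_orderOf.mp (hFp.map f |>.of_equiv
        (MulEquiv.subgroupCongr hFmap) |>.map (MulAut.conj (f g)).toMonoidHom) ⟨z, hzg⟩
      rw [← Subgroup.orderOf_coe] at hk
      change orderOf z = r ^ k at hk
      have h1 : orderOf z ∣ r ^ i * c := hmo ▸ hfm ▸ orderOf_map_dvd f m
      rw [hk] at h1 ⊢
      have h2 := (Nat.Coprime.pow_left k (hr.coprime_iff_not_dvd.mpr hc)).dvd_of_dvd_mul_right h1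
      exact h2.trans (Nat.pow_dvd_pow r (Nat.le_succ i))
    rw [hwdef, map_pow, hfm, ← pow_mod_orderOf, ← Nat.mod_mod_of_dvd _ hzr, hj]
    rcases eq_or_ne (orderOf z) 1 with h1 | h1
    · rw [orderOf_eq_one_iff.mp h1, one_pow]
    · rw [Nat.one_mod_eq_one.mpr h1, pow_one]
  have hwN : w ∈ Subgroup.normalizer (F : Set G) := Subgroup.pow_mem _ hm _
  set X := Q ⊔ MulAut.conj g • F with hX
  have hwX : w ∈ X := by
    rw [hX, ← hker, sup_comm, ← Subgroup.comap_map_eq, Subgroup.mem_comap, hfw,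
      Coprime.map_conj_smul, hFmap]
    exact hzg
  have hwr : IsPGroup r (Subgroup.zpowers w) := Transfer.isPGroup_zpowers (by
    have h1 : orderOf w ∣ r ^ i := by
      rw [hwdef, pow_mul, ← hmc]
      exact orderOf_pow_dvd j
    obtain ⟨k, -, hk⟩ := (Nat.dvd_prime_pow hr).mp h1
    exact ⟨k, hk⟩)
  -- conjugate it into a conjugate of `F`
  set T := (MulAut.conj g • F).subgroupOf X with hT
  have hTp : IsPGroup r T := ((hFp.of_equiv (Subgroup.equivSMul (MulAut.conj g) F))).of_equiv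
    (Subgroup.subgroupOfEquivOfLe (le_sup_right : MulAut.conj g • F ≤ X)).symm
  have hTidx : ¬ r ∣ T.index := by
    intro hd
    have h1 : T.index ∣ Nat.card Q := by
      have h2 := Coprime.card_sup_of_coprime (N := Q) (H := MulAut.conj g • F)
        (fun y _ => by rw [Subgroup.normalizer_eq_top]; trivial)
        (by rw [Coprime.card_conj_smul]; exact hcopQ F hFp)
      rw [← hX] at h2
      have h3 := T.card_mul_index
      rw [hT, Nat.card_congr (Subgroup.subgroupOfEquivOfLe (le_sup_right :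
        MulAut.conj g • F ≤ X)).toEquiv, h2, mul_comm (Nat.card Q)] at h3
      exact dvd_of_eq (Nat.eq_of_mul_eq_mul_left Nat.card_pos h3)
    obtain ⟨k, hk⟩ := IsPGroup.iff_card.mp hQ
    exact hrq ((Nat.prime_dvd_prime_iff_eq hr hq.out).mp (hr.dvd_of_dvd_pow (hk ▸ hd.trans h1)))
  let TS : Sylow r X := hTp.toSylow hTidx
  obtain ⟨S₂, hS₂⟩ := (hwr.of_equiv (Subgroup.subgroupOfEquivOfLe
    (Subgroup.zpowers_le.mpr hwX)).symm).exists_le_sylow
  obtain ⟨x, hx⟩ := MulAction.exists_smul_eq X TS S₂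
  have hw2 : (⟨w, hwX⟩ : X) ∈ (S₂ : Subgroup X) := hS₂ (Subgroup.mem_zpowers w)
  rw [← hx, Sylow.coe_subgroup_smul, Subgroup.mem_pointwise_smul_iff_inv_smul_mem] at hw2
  rw [show (TS : Subgroup X) = T from rfl, hT, Subgroup.mem_subgroupOf,
    Subgroup.mem_pointwise_smul_iff_inv_smul_mem] at hw2
  simp only [← map_inv, MulAut.smul_def, MulAut.conj_apply, Subgroup.coe_mul, InvMemClass.coe_inv,
    inv_inv] at hw2
  refine ⟨w, hFH ((x : G) * g) ⟨⟨_, hw2, ?_⟩, hwN⟩, hfw⟩
  show MulAut.conj ((x : G) * g) _ = w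
  rw [MulAut.conj_apply]
  group

theorem isSupersolvable_of_hypE : ∀ (n : ℕ) (G : Type u) [Group G] [Finite G] (E : Subgroup G)
    [E.Normal], Nat.card G = n → Cfsg.IsSupersolvable (G ⧸ E) → HypE E →
    Cfsg.IsSupersolvable G := by
  intro n
  induction n using Nat.strong_induction_on with
  | _ n IH =>
  intro G _ _ E _ hn hGE h
  subst hn
  rcases eq_or_ne E ⊥ with hE | hE
  · exact Supersolvable.of_mulEquiv hGE
      ((QuotientGroup.quotientMulEquivOfEq hE).trans QuotientGroup.quotientBot)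
  obtain ⟨q, Q, hq, hQn, hQE, hQne, hQp, hQrel⟩ :=
    exists_normal_sylow E h _ E rfl inferInstance le_rfl hE
      (fun r hr _ hd => hr.ne_one (Nat.dvd_one.mp (by rwa [Subgroup.relIndex_self] at hd)))
  haveI : Fact q.Prime := ⟨hq⟩
  haveI := hQn
  haveI : Nontrivial Q := (Subgroup.nontrivial_iff_ne_bot Q).mpr hQne
  set f := QuotientGroup.mk' Q with hf
  have hfs : Function.Surjective f := QuotientGroup.mk'_surjective Q
  haveI : (E.map f).Normal := Subgroup.Normal.map inferInstance f hfs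
  have hss : Cfsg.IsSupersolvable (G ⧸ Q) := IH _ (by
    rw [← Subgroup.card_mul_index Q, ← Subgroup.index_eq_card]
    exact lt_mul_of_one_lt_left (Nat.pos_of_ne_zero Subgroup.index_ne_zero_of_finite)
      Finite.one_lt_card) (G ⧸ Q) (E.map f) rfl
    (Supersolvable.of_mulEquiv hGE (QuotientGroup.quotientQuotientEquivQuotient Q E hQE).symm)
    (hypE_map E Q hQp hQE hQrel h)
  by_cases hc : IsCyclic Q
  · exact Supersolvable.of_quotient_cyclic Q hss
  obtain ⟨D, hDQ, h1, h2, hF⟩ := h q hq Q hQE hQp hQrel hc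
  obtain ⟨d, hd⟩ := IsPGroup.iff_card.mp (hQp.to_le hDQ)
  rw [hd] at h1 h2
  have hall : AllNormal q d Q := fun F hFQ hFc => ⟨fun x hx g =>
    (closed_of_hsub hQp hFQ (hF F hFQ (by rw [hd]; exact hFc))).2 g x hx
      (hQn.conj_mem x (hFQ hx) g)⟩
  have key : ∀ w : G, TrivSec q w → ∃ k : ℕ, ∀ x ∈ Q, Commute (w ^ q ^ k) x := by
    intro w hw
    obtain ⟨k, hk⟩ := exists_coprime_power q w
    refine ⟨k, fun x hx => ?_⟩
    exact (centralizes_of_allNormal (Nat.one_le_iff_ne_zero.mpr fun e => by simp [e] at h1)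
      (hw.pow _) hk Q hQn hQp h2 hall x hx).symm
  exact isSupersolvable_of_quotient Q hQp hss (fun w hw => key w (trivSec_of_mem_commutator hw))
    (fun a => key _ (trivSec_pow_pred a))

end CfsgLib.HSub
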